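/-
An abelian subgroup `A` of largest order in a p-group `S`, against an abelian normal subgroup `Z`.

Main results (namespace `Cfsg.Agent.ThompsonTransfer`): `Sat`, `card_le`, `sat_of_map`, `mem_mul_of_commute`,
`centralizer_le_core`, `sat_sup`, `quad_of_rigid`, `exists_square_element`.
-/
import Cfsg.Agent.Lib.PLocal.Thompson
import Cfsg.Agent.Lib.CentrallyLarge.Basic
import Cfsg.Agent.EqLemmas

set_option autoImplicit false
open Cfsg
open scoped commutatorElement Pointwise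

namespace Cfsg.Agent.ThompsonTransfer

variable {G : Type*} [Group G]

theorem mem_cen {X : Subgroup G} {x : G} :
    x ∈ Subgroup.centralizer (X : Set G) ↔ ∀ y ∈ X, Commute y x :=
  Subgroup.mem_centralizer_iff

theorem commute_of_abelian {A : Subgroup G} (hA : PLocal.abelian A) {a b : G} (ha : a ∈ A) (hb : b ∈ A) :
    Commute a b :=
  Subgroup.mem_centralizer_iff.1 (Subgroup.le_centralizer_iff_isMulCommutative.2 hA hb) a ha

theorem abelian_sup {X Y : Subgroup G} (hX : X ≤ Subgroup.centralizer (X : Set G))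
    (hY : Y ≤ Subgroup.centralizer (Y : Set G)) (hXY : Y ≤ Subgroup.centralizer (X : Set G)) :
    PLocal.abelian (X ⊔ Y) := by
  refine Subgroup.le_centralizer_iff_isMulCommutative.1 ?_
  rw [PLocal.centralizer_sup]
  exact sup_le (le_inf hX (Subgroup.le_centralizer_iff.1 hXY)) (le_inf hXY hY)

/-- A commutator with a product of two elements. -/
theorem comm_mul_right (z a b : G) : ⁅z, a * b⁆ = ⁅z, a⁆ * (⁅⁅z, b⁆, a⁆⁻¹ * ⁅z, b⁆) := by
  simp only [commutatorElement_def]; group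

theorem comm_mul_left (u v b : G) : ⁅u * v, b⁆ = u * ⁅v, b⁆ * u⁻¹ * ⁅u, b⁆ := by
  simp only [commutatorElement_def]; group

theorem comm_eq_one {u v : G} (h : Commute u v) : ⁅u, v⁆ = 1 :=
  commutatorElement_eq_one_iff_commute.2 h

/-- Commutators with commuting elements commute as long as they generate an abelian subgroup. -/
theorem comm_comm {W : Subgroup G} (hW : W ≤ Subgroup.centralizer (W : Set G)) {z a b : G} (hab : Commute a b)
    (ha : ⁅z, a⁆ ∈ W) (hb : ⁅z, b⁆ ∈ W) (hc : ⁅z, a * b⁆ ∈ W) : ⁅⁅z, a⁆, b⁆ = ⁅⁅z, b⁆, a⁆ := by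
  have h1 := comm_mul_right z a b
  have h2 := comm_mul_right z b a
  rw [← hab.eq] at h2
  have hx : ⁅⁅z, b⁆, a⁆⁻¹ ∈ W := by
    have : ⁅⁅z, b⁆, a⁆⁻¹ = ⁅z, a⁆⁻¹ * ⁅z, a * b⁆ * ⁅z, b⁆⁻¹ := by rw [h1]; group
    rw [this]; exact mul_mem (mul_mem (inv_mem ha) hc) (inv_mem hb)
  have hy : ⁅⁅z, a⁆, b⁆⁻¹ ∈ W := by
    have : ⁅⁅z, a⁆, b⁆⁻¹ = ⁅z, b⁆⁻¹ * ⁅z, a * b⁆ * ⁅z, a⁆⁻¹ := by rw [h2]; group
    rw [this]; exact mul_mem (mul_mem (inv_mem hb) hc) (inv_mem ha)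
  have c : ∀ u ∈ W, ∀ v ∈ W, u * v = v * u := fun u hu v hv => mem_cen.1 (hW hv) u hu
  have h3 : ⁅z, a⁆ * (⁅⁅z, b⁆, a⁆⁻¹ * ⁅z, b⁆) = ⁅z, b⁆ * (⁅⁅z, a⁆, b⁆⁻¹ * ⁅z, a⁆) := h1.symm.trans h2
  rw [c _ hy _ ha, ← mul_assoc ⁅z, b⁆, c _ hb _ ha, mul_assoc, c _ hx _ hb] at h3
  exact (inv_injective (mul_left_cancel (mul_left_cancel h3))).symm

/-- `W` makes the bound `|W| |C_A(W)| ≤ |A| |W ∩ A|` an equality. -/
def Sat (A W : Subgroup G) : Prop :=
  Nat.card A * Nat.card ↥(W ⊓ A) ≤ Nat.card W * Nat.card ↥(A ⊓ Subgroup.centralizer (W : Set G))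

variable {S A : Subgroup G}

theorem inf_inf_centralizer {W : Subgroup G} (hW : W ≤ Subgroup.centralizer (W : Set G)) :
    W ⊓ (A ⊓ Subgroup.centralizer (W : Set G)) = W ⊓ A :=
  le_antisymm (inf_le_inf_left W inf_le_left) (le_inf inf_le_left (le_inf inf_le_right (inf_le_left.trans hW)))

theorem sup_abelian (hA : A ∈ PLocal.maxIn PLocal.abelian S) {W : Subgroup G}
    (hW : W ≤ Subgroup.centralizer (W : Set G)) :
    PLocal.abelian (W ⊔ (A ⊓ Subgroup.centralizer (W : Set G))) :=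
  abelian_sup hW (inf_le_left.trans ((Subgroup.le_centralizer_iff_isMulCommutative.2 hA.2.1).trans
    (Subgroup.centralizer_le inf_le_left))) inf_le_right

section Fin

variable [Finite G]

theorem card_le (hA : A ∈ PLocal.maxIn PLocal.abelian S) {W : Subgroup G} (hWS : W ≤ S)
    (hW : W ≤ Subgroup.centralizer (W : Set G)) :
    Nat.card W * Nat.card ↥(A ⊓ Subgroup.centralizer (W : Set G)) ≤ Nat.card A * Nat.card ↥(W ⊓ A) := by
  refine (CentrallyLarge.card_mul_card_le W (A ⊓ Subgroup.centralizer (W : Set G))).trans ?_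
  rw [inf_inf_centralizer hW]
  exact Nat.mul_le_mul_right _
    (hA.2.2 _ (sup_le hWS (inf_le_left.trans hA.1)) (sup_abelian hA hW))

theorem Sat.sup_mem (hA : A ∈ PLocal.maxIn PLocal.abelian S) {W : Subgroup G} (hWS : W ≤ S)
    (hW : W ≤ Subgroup.centralizer (W : Set G)) (h : Sat A W) :
    W ⊔ (A ⊓ Subgroup.centralizer (W : Set G)) ∈ PLocal.maxIn PLocal.abelian S := by
  refine ⟨sup_le hWS (inf_le_left.trans hA.1), sup_abelian hA hW, fun B hB hBa => (hA.2.2 B hB hBa).trans ?_⟩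
  have h1 := h.trans (CentrallyLarge.card_mul_card_le W (A ⊓ Subgroup.centralizer (W : Set G)))
  rw [inf_inf_centralizer hW] at h1
  exact Nat.le_of_mul_le_mul_right h1 Nat.card_pos

/-- An element of `S` centralizing a saturated `W` and `C_A(W)` lies in `W C_A(W)`. -/
theorem mem_mul_of_commute (hA : A ∈ PLocal.maxIn PLocal.abelian S) {W : Subgroup G} (hWS : W ≤ S)
    (hW : W ≤ Subgroup.centralizer (W : Set G)) (h : Sat A W) {y : G} (hy : y ∈ S) (hyW : ∀ w ∈ W, Commute w y)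
    (hyC : ∀ c ∈ A ⊓ Subgroup.centralizer (W : Set G), Commute c y) :
    ∃ w ∈ W, ∃ c ∈ A ⊓ Subgroup.centralizer (W : Set G), y = w * c := by
  have h1 := PLocal.mem_of_centralizes_abelian (h.sup_mem hA hWS hW) hy (by
    rw [PLocal.centralizer_sup]
    exact ⟨mem_cen.2 hyW, mem_cen.2 hyC⟩)
  rw [← SetLike.mem_coe, CentrallyLarge.sup_of_card W (A ⊓ Subgroup.centralizer (W : Set G))] at h1
  · obtain ⟨w, hw, c, hc, e⟩ := h1
    exact ⟨w, hw, c, hc, e.symm⟩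
  · rw [inf_inf_centralizer hW]
    exact (Nat.mul_le_mul_right _ ((hA.2.2 _ (sup_le hWS (inf_le_left.trans hA.1)) (sup_abelian hA hW)))).trans h

/-- Pigeonhole: a map of `A` into `W` that separates the cosets of `C_A(W)` modulo `W ∩ A` saturates `W`, and
meets every coset of `W ∩ A` in `W`. -/
theorem sat_of_map (hA : A ∈ PLocal.maxIn PLocal.abelian S) {W : Subgroup G} (hWS : W ≤ S)
    (hW : W ≤ Subgroup.centralizer (W : Set G)) (f : G → G) (hf : ∀ a ∈ A, f a ∈ W)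
    (hsep : ∀ a ∈ A, ∀ b ∈ A, (f a)⁻¹ * f b ∈ A → a⁻¹ * b ∈ Subgroup.centralizer (W : Set G)) :
    Sat A W ∧ ∀ m ∈ W, ∃ a ∈ A, (f a)⁻¹ * m ∈ A := by
  set C := (Subgroup.centralizer (W : Set G)).subgroupOf A with hC
  set J := A.subgroupOf W with hJ
  let F : ↥A ⧸ C → ↥W ⧸ J := fun q => QuotientGroup.mk ⟨f (q.out : G), hf _ q.out.2⟩
  have hF : Function.Injective F := by
    intro q q' h
    have h1 : (f (q.out : G))⁻¹ * f (q'.out : G) ∈ A := Subgroup.mem_subgroupOf.1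
      ((QuotientGroup.eq (s := J) (a := (⟨_, hf _ q.out.2⟩ : ↥W)) (b := ⟨_, hf _ q'.out.2⟩)).1 h)
    calc q = QuotientGroup.mk q.out := (QuotientGroup.out_eq' q).symm
      _ = QuotientGroup.mk q'.out := QuotientGroup.eq.2 (hsep _ q.out.2 _ q'.out.2 h1)
      _ = q' := QuotientGroup.out_eq' q'
  have eC : Nat.card C = Nat.card ↥(A ⊓ Subgroup.centralizer (W : Set G)) := by
    rw [← Subgroup.card_map_of_injective (K := C) A.subtype_injective, hC, Subgroup.subgroupOf_map_subtype,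
      inf_comm]
  have eJ : Nat.card J = Nat.card ↥(W ⊓ A) := by
    rw [← Subgroup.card_map_of_injective (K := J) W.subtype_injective, hJ, Subgroup.subgroupOf_map_subtype,
      inf_comm]
  have hle : Nat.card (↥A ⧸ C) ≤ Nat.card (↥W ⧸ J) := Nat.card_le_card_of_injective F hF
  have hAc := Subgroup.card_eq_card_quotient_mul_card_subgroup C
  have hWc := Subgroup.card_eq_card_quotient_mul_card_subgroup J
  rw [eC] at hAc
  rw [eJ] at hWc
  have hb := card_le hA hWS hW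
  have hsat : Sat A W := by
    have := Nat.mul_le_mul_right (Nat.card ↥(A ⊓ Subgroup.centralizer (W : Set G)) * Nat.card ↥(W ⊓ A)) hle
    rw [Sat, hAc, hWc]
    linarith
  have heq : Nat.card (↥A ⧸ C) = Nat.card (↥W ⧸ J) := by
    refine le_antisymm hle ?_
    rw [hAc, hWc] at hb
    refine Nat.le_of_mul_le_mul_right (c := Nat.card ↥(A ⊓ Subgroup.centralizer (W : Set G)) * Nat.card ↥(W ⊓ A))
      ?_ (Nat.mul_pos Nat.card_pos Nat.card_pos)
    linarith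
  refine ⟨hsat, fun m hm => ?_⟩
  obtain ⟨q, hq⟩ := ((Nat.bijective_iff_injective_and_card F).2 ⟨hF, heq⟩).2 (QuotientGroup.mk ⟨m, hm⟩)
  exact ⟨q.out, q.out.2, Subgroup.mem_subgroupOf.1
    ((QuotientGroup.eq (s := J) (a := (⟨_, hf _ q.out.2⟩ : ↥W)) (b := ⟨m, hm⟩)).1 hq)⟩

end Fin

/-- The hypotheses on `A` and `Z`: `A` is abelian of largest order in `S`, `Z` is an abelian subgroup of `S`
closed under commutation with `A`, and a member of largest order meeting `Z` in more than `A` does lies in `T`. -/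
structure Setup (S T A Z : Subgroup G) : Prop where
  maxA : A ∈ PLocal.maxIn PLocal.abelian S
  le_S : Z ≤ S
  comm : Z ≤ Subgroup.centralizer (Z : Set G)
  conj : ∀ z ∈ Z, ∀ x : G, x * z * x⁻¹ ∈ Z
  big : ∀ B ∈ PLocal.maxIn PLocal.abelian S, Nat.card ↥(A ⊓ Z) < Nat.card ↥(B ⊓ Z) → B ≤ T

namespace Setup

variable {T Z : Subgroup G}

theorem comm_mem (h : Setup S T A Z) {z : G} (hz : z ∈ Z) (x : G) : ⁅z, x⁆ ∈ Z := by
  rw [show ⁅z, x⁆ = z * (x * z⁻¹ * x⁻¹) by simp [commutatorElement_def, mul_assoc]]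
  exact mul_mem hz (h.conj _ (inv_mem hz) x)

theorem hom (h : Setup S T A Z) {u v : G} (hu : u ∈ Z) (hv : v ∈ Z) (x : G) :
    ⁅u * v, x⁆ = ⁅u, x⁆ * ⁅v, x⁆ := by
  have c : ∀ s ∈ Z, ∀ t ∈ Z, s * t = t * s := fun s hs t ht => mem_cen.1 (h.comm ht) s hs
  rw [comm_mul_left, c _ hu _ (h.comm_mem hv x), mul_inv_cancel_right, c _ (h.comm_mem hv x) _ (h.comm_mem hu x)]

theorem inv' (h : Setup S T A Z) {u : G} (hu : u ∈ Z) (x : G) : ⁅u⁻¹, x⁆ = ⁅u, x⁆⁻¹ := by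
  refine eq_inv_of_mul_eq_one_left ?_
  rw [← h.hom (inv_mem hu) hu x, inv_mul_cancel, commutatorElement_one_left]

theorem comm₂ (h : Setup S T A Z) {z a b : G} (hz : z ∈ Z) (hab : Commute a b) :
    ⁅⁅z, a⁆, b⁆ = ⁅⁅z, b⁆, a⁆ :=
  comm_comm h.comm hab (h.comm_mem hz _) (h.comm_mem hz _) (h.comm_mem hz _)

theorem fix (h : Setup S T A Z) {i a : G} (hi : i ∈ A) (ha : a ∈ A) : ⁅i, a⁆ = 1 :=
  comm_eq_one (commute_of_abelian h.maxA.2.1 hi ha)

theorem abel (h : Setup S T A Z) {W : Subgroup G} (hWZ : W ≤ Z) : W ≤ Subgroup.centralizer (W : Set G) :=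
  hWZ.trans (h.comm.trans (Subgroup.centralizer_le hWZ))

theorem inf_eq (_h : Setup S T A Z) {W : Subgroup G} (hIW : A ⊓ Z ≤ W) (hWZ : W ≤ Z) : W ⊓ A = A ⊓ Z :=
  le_antisymm (le_inf inf_le_right (inf_le_left.trans hWZ)) (le_inf hIW inf_le_left)

theorem centralizer_le_core [Finite G] (h : Setup S T A Z) {W : Subgroup G} (hIW : A ⊓ Z ≤ W) (hWZ : W ≤ Z)
    (hne : W ≠ A ⊓ Z) (hs : Sat A W) : A ⊓ Subgroup.centralizer (W : Set G) ≤ T := by
  refine le_sup_right.trans (h.big _ (hs.sup_mem h.maxA (hWZ.trans h.le_S) (h.abel hWZ)) ?_)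
  refine lt_of_lt_of_le (lt_of_le_of_ne (Subgroup.card_le_of_le hIW) fun e => hne ?_)
    (Subgroup.card_le_of_le (le_inf le_sup_left hWZ))
  exact (Subgroup.eq_of_le_of_card_ge hIW e.ge).symm

/-- The lattice property of saturated subgroups. -/
theorem sat_sup [Finite G] (h : Setup S T A Z) {W₁ W₂ : Subgroup G} (h1 : A ⊓ Z ≤ W₁) (h1Z : W₁ ≤ Z)
    (h2 : A ⊓ Z ≤ W₂) (h2Z : W₂ ≤ Z) (s1 : Sat A W₁) (s2 : Sat A W₂) :
    Sat A (W₁ ⊔ W₂) ∧ ∀ c ∈ A ⊓ Subgroup.centralizer ((W₁ ⊓ W₂ : Subgroup G) : Set G),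
      ∃ c₁ ∈ A ⊓ Subgroup.centralizer (W₁ : Set G), ∃ c₂ ∈ A ⊓ Subgroup.centralizer (W₂ : Set G), c = c₁ * c₂ := by
  set U := W₁ ⊔ W₂ with hU
  set D := W₁ ⊓ W₂ with hD
  set C₁ := A ⊓ Subgroup.centralizer (W₁ : Set G) with hC₁
  set C₂ := A ⊓ Subgroup.centralizer (W₂ : Set G) with hC₂
  set CD := A ⊓ Subgroup.centralizer (D : Set G) with hCD
  have hCU : A ⊓ Subgroup.centralizer (U : Set G) = C₁ ⊓ C₂ := by
    rw [hU, PLocal.centralizer_sup, hC₁, hC₂]; exact inf_inf_distrib_left _ _ _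
  have hsupD : C₁ ⊔ C₂ ≤ CD := sup_le (inf_le_inf_left _ (Subgroup.centralizer_le inf_le_left))
    (inf_le_inf_left _ (Subgroup.centralizer_le inf_le_right))
  set i := Nat.card ↥(A ⊓ Z)
  have b1 : Nat.card A * i ≤ Nat.card W₁ * Nat.card C₁ := by
    have := s1; rwa [Sat, h.inf_eq h1 h1Z] at this
  have b2 : Nat.card A * i ≤ Nat.card W₂ * Nat.card C₂ := by
    have := s2; rwa [Sat, h.inf_eq h2 h2Z] at this
  have bU : Nat.card U * Nat.card ↥(C₁ ⊓ C₂) ≤ Nat.card A * i := by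
    have := card_le h.maxA ((sup_le h1Z h2Z).trans h.le_S) (h.abel (sup_le h1Z h2Z))
    rwa [h.inf_eq (h1.trans le_sup_left) (sup_le h1Z h2Z), hCU] at this
  have bD : Nat.card D * Nat.card CD ≤ Nat.card A * i := by
    have hDZ : D ≤ Z := inf_le_left.trans h1Z
    have := card_le h.maxA (hDZ.trans h.le_S) (h.abel hDZ)
    rwa [h.inf_eq (le_inf h1 h2) (inf_le_left.trans h1Z)] at this
  have mW := CentrallyLarge.card_mul_card_le W₁ W₂
  have mC : Nat.card C₁ * Nat.card C₂ ≤ Nat.card CD * Nat.card ↥(C₁ ⊓ C₂) :=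
    (CentrallyLarge.card_mul_card_le C₁ C₂).trans (Nat.mul_le_mul_right _ (Subgroup.card_le_of_le hsupD))
  have hpos : 0 < Nat.card A * i := Nat.mul_pos Nat.card_pos Nat.card_pos
  refine ⟨?_, ?_⟩
  · rw [Sat, h.inf_eq (h1.trans le_sup_left) (sup_le h1Z h2Z), hCU]
    refine Nat.le_of_mul_le_mul_right ?_ hpos
    calc Nat.card A * i * (Nat.card A * i)
        ≤ Nat.card W₁ * Nat.card C₁ * (Nat.card W₂ * Nat.card C₂) := Nat.mul_le_mul b1 b2
      _ = Nat.card W₁ * Nat.card W₂ * (Nat.card C₁ * Nat.card C₂) := by ring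
      _ ≤ Nat.card U * Nat.card D * (Nat.card CD * Nat.card ↥(C₁ ⊓ C₂)) := Nat.mul_le_mul mW mC
      _ = Nat.card U * Nat.card ↥(C₁ ⊓ C₂) * (Nat.card D * Nat.card CD) := by ring
      _ ≤ _ := Nat.mul_le_mul_left _ bD
  · have key : Nat.card CD * Nat.card ↥(C₁ ⊓ C₂) ≤ Nat.card C₁ * Nat.card C₂ := by
      have hpos' : 0 < Nat.card W₁ * Nat.card W₂ := Nat.mul_pos Nat.card_pos Nat.card_pos
      refine Nat.le_of_mul_le_mul_left ?_ hpos'
      calc Nat.card W₁ * Nat.card W₂ * (Nat.card CD * Nat.card ↥(C₁ ⊓ C₂))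
          ≤ Nat.card U * Nat.card D * (Nat.card CD * Nat.card ↥(C₁ ⊓ C₂)) := Nat.mul_le_mul_right _ mW
        _ = Nat.card U * Nat.card ↥(C₁ ⊓ C₂) * (Nat.card D * Nat.card CD) := by ring
        _ ≤ Nat.card A * i * (Nat.card A * i) := Nat.mul_le_mul bU bD
        _ ≤ Nat.card W₁ * Nat.card C₁ * (Nat.card W₂ * Nat.card C₂) := Nat.mul_le_mul b1 b2
        _ = _ := by ring
    have hsup : C₁ ⊔ C₂ = CD := Subgroup.eq_of_le_of_card_ge hsupD
      (Nat.le_of_mul_le_mul_right (key.trans (CentrallyLarge.card_mul_card_le C₁ C₂)) Nat.card_pos)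
    intro c hc
    rw [← hsup, ← SetLike.mem_coe, CentrallyLarge.sup_of_card C₁ C₂ (hsup ▸ key)] at hc
    obtain ⟨c₁, hc₁, c₂, hc₂, e⟩ := hc
    exact ⟨c₁, hc₁, c₂, hc₂, e.symm⟩

/-- The subgroup generated by `⁅z, A⁆` and `A ∩ Z`. -/
def span (A Z : Subgroup G) (z : G) : Subgroup G :=
  Subgroup.closure {x | ∃ a ∈ A, ⁅z, a⁆ = x} ⊔ (A ⊓ Z)

theorem comm_mem_span {z a : G} (ha : a ∈ A) : ⁅z, a⁆ ∈ span A Z z :=
  Subgroup.mem_sup_left (Subgroup.subset_closure ⟨a, ha, rfl⟩)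

theorem span_le (h : Setup S T A Z) {z : G} (hz : z ∈ Z) : span A Z z ≤ Z :=
  sup_le ((Subgroup.closure_le _).2 (by rintro _ ⟨a, -, rfl⟩; exact h.comm_mem hz a)) inf_le_right

theorem span_closed (h : Setup S T A Z) {z b : G} (hz : z ∈ Z) (hb : b ∈ A) {m : G} (hm : m ∈ span A Z z) :
    ⁅m, b⁆ ∈ span A Z z := by
  let K : Subgroup G :=
    { carrier := {m | m ∈ Z ∧ ⁅m, b⁆ ∈ span A Z z}
      one_mem' := ⟨one_mem _, by simp⟩
      mul_mem' := fun {u v} hu hv => ⟨mul_mem hu.1 hv.1, by rw [h.hom hu.1 hv.1]; exact mul_mem hu.2 hv.2⟩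
      inv_mem' := fun {u} hu => ⟨inv_mem hu.1, by rw [h.inv' hu.1]; exact inv_mem hu.2⟩ }
  refine ((?_ : span A Z z ≤ K) hm).2
  refine sup_le ((Subgroup.closure_le _).2 ?_) fun i hi => ⟨hi.2, by rw [h.fix hi.1 hb]; exact one_mem _⟩
  rintro _ ⟨a, ha, rfl⟩
  refine ⟨h.comm_mem hz a, ?_⟩
  have e : ⁅⁅z, a⁆, b⁆ = ⁅z, a⁆ * (⁅z, b * a⁆⁻¹ * ⁅z, b⁆) := by
    rw [comm_mul_right z b a]; group
  rw [e]
  exact mul_mem (comm_mem_span ha) (mul_mem (inv_mem (comm_mem_span (mul_mem hb ha))) (comm_mem_span hb))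

theorem span_sat [Finite G] (h : Setup S T A Z) {z : G} (hz : z ∈ Z) :
    Sat A (span A Z z) ∧ ∀ m ∈ span A Z z, ∃ a ∈ A, ⁅z, a⁆⁻¹ * m ∈ A := by
  refine sat_of_map h.maxA ((h.span_le hz).trans h.le_S) (h.abel (h.span_le hz)) (fun a => ⁅z, a⁆)
    (fun a ha => comm_mem_span ha) fun a ha b hb hab => ?_
  set c := a⁻¹ * b with hc
  have hcA : c ∈ A := mul_mem (inv_mem ha) hb
  have e : ⁅z, a⁆⁻¹ * ⁅z, b⁆ = a * ⁅z, c⁆ * a⁻¹ := by
    rw [hc]; simp only [commutatorElement_def]; group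
  have hu : ⁅z, c⁆ ∈ A := by
    have := mul_mem (mul_mem (inv_mem ha) (e ▸ hab)) ha
    simpa [mul_assoc] using this
  have hcl : span A Z z ≤ Subgroup.centralizer ((Subgroup.zpowers c : Subgroup G) : Set G) := by
    refine sup_le ((Subgroup.closure_le _).2 ?_) fun i hi => ?_
    · rintro _ ⟨d, hd, rfl⟩
      rw [SetLike.mem_coe, Subgroup.mem_centralizer_iff]
      rintro _ ⟨k, rfl⟩
      refine (Commute.zpow_left ?_ k).eq
      refine (commutatorElement_eq_one_iff_commute.1 ?_).symm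
      rw [h.comm₂ hz (commute_of_abelian h.maxA.2.1 hd hcA)]
      exact h.fix hu hd
    · exact Subgroup.mem_centralizer_iff.2 fun x hx =>
        commute_of_abelian h.maxA.2.1 (Subgroup.zpowers_le.2 hcA hx) hi.1
  exact mem_cen.2 fun m hm => (mem_cen.1 (hcl hm) c (Subgroup.mem_zpowers c)).symm

/-- If no subgroup above `A ∩ Z` is saturated then `A` acts quadratically on `Z`. -/
theorem quad_of_rigid [Finite G] (h : Setup S T A Z)
    (hF : ∀ F : Subgroup G, A ⊓ Z ≤ F → F ≤ Z → Sat A F → F = A ⊓ Z) {z : G} (hz : z ∈ Z) {a : G}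
    (ha : a ∈ A) : ⁅z, a⁆ ∈ A ⊓ Z :=
  (hF _ le_sup_right (h.span_le hz) (h.span_sat hz).1).le (comm_mem_span ha)

/-- On `⁅Z, A⁆` the operator `⁅⁅·, g⁆, g⁆` is commutation with a single element of `A ∩ T`. -/
theorem exists_square_element [Finite G] (h : Setup S T A Z)
    (hnil : ∀ X : Subgroup G, X ≤ S → X ≤ ⁅X, A⁆ → X = ⊥) {g : G} (hg : g ∈ A) :
    ∃ a ∈ A, a ∈ T ∧ ∀ z ∈ Z, ∀ b ∈ A, ⁅⁅⁅z, b⁆, g⁆, g⁆ = ⁅⁅z, b⁆, a⁆ := by
  classical
  have hAc : ∀ {x y : G}, x ∈ A → y ∈ A → Commute x y := fun hx hy => commute_of_abelian h.maxA.2.1 hx hy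
  -- the subgroup where two operators agree
  let agree : G → Subgroup G := fun a =>
    { carrier := {w | w ∈ Z ∧ ⁅⁅w, g⁆, g⁆ = ⁅w, a⁆}
      one_mem' := ⟨one_mem _, by simp⟩
      mul_mem' := fun {u v} hu hv => ⟨mul_mem hu.1 hv.1, by
        rw [h.hom hu.1 hv.1, h.hom hu.1 hv.1, h.hom (h.comm_mem hu.1 g) (h.comm_mem hv.1 g), hu.2, hv.2]⟩
      inv_mem' := fun {u} hu => ⟨inv_mem hu.1, by
        rw [h.inv' hu.1, h.inv' hu.1, h.inv' (h.comm_mem hu.1 g), hu.2]⟩ }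
  let Good : Subgroup G → Prop := fun W => A ⊓ Z ≤ W ∧ W ≤ Z ∧ Sat A W ∧ ∃ a ∈ A, W ≤ agree a
  have hI : Good (A ⊓ Z) := by
    refine ⟨le_rfl, inf_le_right, ?_, 1, one_mem _, fun w hw => ⟨hw.2, ?_⟩⟩
    · have hc : A ⊓ Subgroup.centralizer ((A ⊓ Z : Subgroup G) : Set G) = A :=
        inf_eq_left.2 ((Subgroup.le_centralizer_iff_isMulCommutative.2 h.maxA.2.1).trans
          (Subgroup.centralizer_le inf_le_left))
      rw [Sat, h.inf_eq le_rfl inf_le_right, hc, mul_comm]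
    · rw [h.fix hw.1 hg, commutatorElement_one_left, commutatorElement_one_right]
  have hspan : ∀ z ∈ Z, Good (span A Z z) := by
    intro z hz
    obtain ⟨a, ha, hai⟩ := (h.span_sat hz).2 ⁅⁅z, g⁆, g⁆ (h.span_closed hz hg (comm_mem_span hg))
    refine ⟨le_sup_right, h.span_le hz, (h.span_sat hz).1, a, ha,
      sup_le ((Subgroup.closure_le _).2 ?_) fun i hi => ⟨hi.2, by
        rw [h.fix hi.1 hg, commutatorElement_one_left, h.fix hi.1 ha]⟩⟩
    rintro _ ⟨b, hb, rfl⟩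
    refine ⟨h.comm_mem hz b, ?_⟩
    obtain ⟨i, hiA, hiZ, e⟩ : ∃ i ∈ A, i ∈ Z ∧ ⁅⁅z, g⁆, g⁆ = ⁅z, a⁆ * i :=
      ⟨_, hai, mul_mem (inv_mem (h.comm_mem hz a)) (h.comm_mem (h.comm_mem hz g) g),
        (mul_inv_cancel_left _ _).symm⟩
    rw [h.comm₂ hz (hAc hb hg), h.comm₂ (h.comm_mem hz g) (hAc hb hg), e, h.hom (h.comm_mem hz a) hiZ,
      h.fix hiA hb, mul_one, h.comm₂ hz (hAc ha hb)]
  obtain ⟨W, hIW, hWmax⟩ := Finite.exists_le_maximal (α := Subgroup G) (p := Good) (a := A ⊓ Z) hI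
  obtain ⟨-, hWZ, hWs, a, haA, haW⟩ := hWmax.prop
  have hall : ∀ z ∈ Z, span A Z z ≤ W := by
    intro z hz
    obtain ⟨h2, h2Z, h2s, b, hbA, hb⟩ := hspan z hz
    obtain ⟨hs, hsplit⟩ := h.sat_sup hIW hWZ h2 h2Z hWs h2s
    have hd : a⁻¹ * b ∈ A ⊓ Subgroup.centralizer ((W ⊓ span A Z z : Subgroup G) : Set G) := by
      refine ⟨A.mul_mem (A.inv_mem haA) hbA, mem_cen.2 fun w hw => commutatorElement_eq_one_iff_commute.1 ?_⟩
      have e1 : ⁅w, a⁆ = ⁅w, b⁆ := (haW hw.1).2.symm.trans (hb hw.2).2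
      calc ⁅w, a⁻¹ * b⁆ = a⁻¹ * (⁅w, a⁆⁻¹ * ⁅w, b⁆) * a := by simp only [commutatorElement_def]; group
        _ = 1 := by rw [e1]; group
    obtain ⟨c₁, hc₁, c₂, hc₂, e⟩ := hsplit _ hd
    refine le_sup_right.trans (hWmax.2 ⟨hIW.trans le_sup_left, sup_le hWZ h2Z, hs, a * c₁,
      mul_mem haA hc₁.1, sup_le (fun w hw => ⟨hWZ hw, ?_⟩) fun w hw => ⟨h2Z hw, ?_⟩⟩ le_sup_left)
    · rw [(haW hw).2, comm_mul_right, comm_eq_one (mem_cen.1 hc₁.2 w hw)]
      simp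
    · have e2 : a * c₁ = b * c₂⁻¹ := by
        rw [eq_mul_inv_iff_mul_eq, mul_assoc, ← e, mul_inv_cancel_left]
      rw [(hb hw).2, e2, comm_mul_right, comm_eq_one (Commute.inv_right (mem_cen.1 hc₂.2 w hw))]
      simp
  have key : ∀ z ∈ Z, ∀ b ∈ A, ⁅⁅⁅z, b⁆, g⁆, g⁆ = ⁅⁅z, b⁆, a⁆ :=
    fun z hz b hb => (haW (hall z hz (comm_mem_span hb))).2
  by_cases hquad : ∀ z ∈ Z, span A Z z = A ⊓ Z
  · refine ⟨1, one_mem _, one_mem _, fun z hz b hb => ?_⟩
    have hi : ⁅z, b⁆ ∈ A ⊓ Z := (hquad z hz).le (comm_mem_span hb)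
    rw [h.fix hi.1 hg, commutatorElement_one_left, commutatorElement_one_right]
  push Not at hquad
  obtain ⟨z, ⟨hz, hzne⟩, hzmin⟩ := Set.exists_min_image {z : G | z ∈ Z ∧ span A Z z ≠ A ⊓ Z}
    (fun z => Nat.card (span A Z z)) (Set.toFinite _) hquad
  set F := span A Z z
  have hF2 : ∀ m ∈ F, span A Z m = A ⊓ Z := by
    intro m hm
    by_contra hmne
    have hmZ := h.span_le hz hm
    have hle : span A Z m ≤ F :=
      sup_le ((Subgroup.closure_le _).2 (by rintro _ ⟨b, hb, rfl⟩; exact h.span_closed hz hb hm)) le_sup_right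
    have hFm : span A Z m = F := Subgroup.eq_of_le_of_card_ge hle (hzmin m ⟨hmZ, hmne⟩)
    set X := ⁅F, A⁆
    have hFX : F ≤ X ⊔ (A ⊓ Z) := hFm.symm.le.trans (sup_le ((Subgroup.closure_le _).2 (by
      rintro _ ⟨b, hb, rfl⟩
      exact Subgroup.mem_sup_left (Subgroup.commutator_mem_commutator hm hb))) le_sup_right)
    have hXF : X ≤ F := Subgroup.commutator_le.2 fun u hu b hb => h.span_closed hz hb hu
    have hXX : X ≤ ⁅X, A⁆ := by
      refine Subgroup.commutator_le.2 fun u hu b hb => ?_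
      let K : Subgroup G :=
        { carrier := {u | u ∈ Z ∧ ⁅u, b⁆ ∈ ⁅X, A⁆}
          one_mem' := ⟨one_mem _, by simp⟩
          mul_mem' := fun {u v} hu hv => ⟨mul_mem hu.1 hv.1, by rw [h.hom hu.1 hv.1]; exact mul_mem hu.2 hv.2⟩
          inv_mem' := fun {u} hu => ⟨inv_mem hu.1, by rw [h.inv' hu.1]; exact inv_mem hu.2⟩ }
      exact ((sup_le (fun x hx => ⟨(h.span_le hz) (hXF hx), Subgroup.commutator_mem_commutator hx hb⟩)
        (fun x hx => ⟨hx.2, by rw [h.fix hx.1 hb]; exact one_mem _⟩) : X ⊔ (A ⊓ Z) ≤ K) (hFX hu)).2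
    have hX : X = ⊥ := hnil X (hXF.trans ((h.span_le hz).trans h.le_S)) hXX
    rw [hX, bot_sup_eq] at hFX
    exact hzne (le_antisymm hFX le_sup_right)
  refine ⟨a, haA, h.centralizer_le_core le_sup_right (h.span_le hz) hzne (h.span_sat hz).1
    ⟨haA, mem_cen.2 fun m hm => commutatorElement_eq_one_iff_commute.1 ?_⟩, key⟩
  rw [← (haW (hall z hz hm)).2]
  have hi : ⁅m, g⁆ ∈ A ⊓ Z := (hF2 m hm).le (comm_mem_span hg)
  exact h.fix hi.1 hg

end Setup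

end Cfsg.Agent.ThompsonTransfer
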