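/-
An abelian subgroup `A` of largest order against a normal subgroup `H` of class two, in the rigid case where no
subgroup of `Z(H)` above `A ∩ Z(H)` is saturated.

Main results (namespace `Cfsg.Agent.ThompsonTransfer`): `Setup₂`, `bracket_eq_one`, `square_mem`.
-/
import Cfsg.Agent.Lib.ThompsonTransfer.Abelian
import Cfsg.Prelude.Def_PLocal

set_option autoImplicit false
open Cfsg
open scoped commutatorElement Pointwise

namespace Cfsg.Agent.ThompsonTransfer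

variable {G : Type*} [Group G] {S T A H : Subgroup G}

/-- `A` against a normal subgroup `H` of `T` with `⁅T, H⁆ ≤ Z(H)`. -/
structure Setup₂ (S T A H : Subgroup G) : Prop where
  base : Setup S T A (H ⊓ Subgroup.centralizer (H : Set G))
  normal : ∀ h ∈ H, ∀ x : G, x * h * x⁻¹ ∈ H
  le_T : H ≤ T
  T_le_S : T ≤ S
  comm_T : ⁅T, H⁆ ≤ H ⊓ Subgroup.centralizer (H : Set G)
  big : ∀ B ∈ PLocal.maxIn PLocal.abelian S,
    Nat.card ↥(A ⊓ (H ⊓ Subgroup.centralizer (H : Set G))) ≤ Nat.card ↥(B ⊓ (H ⊓ Subgroup.centralizer (H : Set G))) →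
    Nat.card ↥(A ⊓ H) < Nat.card ↥(B ⊓ H) → B ≤ T

namespace Setup₂

theorem bracket_mem (h : Setup₂ S T A H) {u v : G} (hu : u ∈ T) (hv : v ∈ H) :
    ⁅u, v⁆ ∈ H ⊓ Subgroup.centralizer (H : Set G) :=
  h.comm_T (Subgroup.commutator_mem_commutator hu hv)

theorem bracket_mem' (h : Setup₂ S T A H) {u v : G} (hu : u ∈ H) (hv : v ∈ T) :
    ⁅u, v⁆ ∈ H ⊓ Subgroup.centralizer (H : Set G) := by
  rw [← commutatorElement_inv]; exact inv_mem (h.bracket_mem hv hu)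

theorem central (_h : Setup₂ S T A H) {z u : G} (hz : z ∈ H ⊓ Subgroup.centralizer (H : Set G)) (hu : u ∈ H) :
    Commute u z :=
  mem_cen.1 hz.2 u hu

theorem left (h : Setup₂ S T A H) {u v x : G} (hu : u ∈ H) (hv : v ∈ H) (hx : x ∈ T) :
    ⁅u * v, x⁆ = ⁅u, x⁆ * ⁅v, x⁆ := by
  rw [comm_mul_left, (h.central (h.bracket_mem' hv hx) hu).eq, mul_inv_cancel_right,
    (mem_cen.1 (h.base.comm (h.bracket_mem' hv hx)) _ (h.bracket_mem' hu hx)).eq]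

theorem left_inv (h : Setup₂ S T A H) {u x : G} (hu : u ∈ H) (hx : x ∈ T) : ⁅u⁻¹, x⁆ = ⁅u, x⁆⁻¹ := by
  refine eq_inv_of_mul_eq_one_left ?_
  rw [← h.left (inv_mem hu) hu hx, inv_mul_cancel, commutatorElement_one_left]

theorem right (h : Setup₂ S T A H) {u v x : G} (hx : x ∈ H) (hu : u ∈ H) (hv : v ∈ H) :
    ⁅x, u * v⁆ = ⁅x, u⁆ * ⁅x, v⁆ := by
  have e : ⁅x, u * v⁆ = ⁅x, u⁆ * (u * ⁅x, v⁆ * u⁻¹) := by simp only [commutatorElement_def]; group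
  rw [e, (h.central (h.bracket_mem (h.le_T hx) hv) hu).eq, mul_inv_cancel_right]

theorem swap (h : Setup₂ S T A H) {v g c : G} (hv : v ∈ H) (hgc : Commute g c) (hc : c ∈ T) :
    ⁅⁅v, g⁆, c⁆ = ⁅⁅v, c⁆, g⁆ := by
  have hv' : g * v⁻¹ * g⁻¹ ∈ H := h.normal _ (inv_mem hv) g
  have hz := h.bracket_mem' hv hc
  have e1 : ⁅g * v⁻¹ * g⁻¹, c⁆ = g * ⁅v⁻¹, c⁆ * g⁻¹ := by
    rw [show g * ⁅v⁻¹, c⁆ * g⁻¹ = ⁅g * v⁻¹ * g⁻¹, g * c * g⁻¹⁆ by simp only [commutatorElement_def]; group,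
      hgc.eq, mul_inv_cancel_right]
  rw [show ⁅v, g⁆ = v * (g * v⁻¹ * g⁻¹) by simp only [commutatorElement_def]; group, h.left hv hv' hc, e1,
    h.left_inv hv hc]
  simp only [commutatorElement_def]; group

/-- The elements of `H` centralizing `A ∩ T`. -/
def R (T A H : Subgroup G) : Subgroup G := H ⊓ Subgroup.centralizer ((A ⊓ T : Subgroup G) : Set G)

theorem R_le : R T A H ≤ H := inf_le_left

theorem inf_le_R (h : Setup₂ S T A H) : A ⊓ H ≤ R T A H := fun _ hx =>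
  ⟨hx.2, mem_cen.2 fun _ hy => commute_of_abelian h.base.maxA.2.1 hy.1 hx.1⟩

theorem commute_R (h : Setup₂ S T A H) {s u : G} (hsA : s ∈ A) (hsH : s ∈ H) (hu : u ∈ R T A H) : Commute s u :=
  mem_cen.1 hu.2 s ⟨hsA, h.le_T hsH⟩

theorem conj_R (h : Setup₂ S T A H) {a r : G} (ha : a ∈ A) (hr : r ∈ R T A H) : a * r * a⁻¹ ∈ R T A H := by
  refine ⟨h.normal r hr.1 a, mem_cen.2 fun c hc => ?_⟩
  have h1 : Commute a c := commute_of_abelian h.base.maxA.2.1 ha hc.1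
  have h2 : Commute c r := mem_cen.1 hr.2 c hc
  exact (h1.symm.mul_right h2).mul_right h1.symm.inv_right

theorem bracket_R (h : Setup₂ S T A H) {a r : G} (ha : a ∈ A) (hr : r ∈ R T A H) : ⁅a, r⁆ ∈ R T A H := by
  rw [commutatorElement_def]; exact mul_mem (h.conj_R ha hr) (inv_mem hr)

/-- `⁅A, r⁆ ≤ A`. -/
def Deg₂ (A : Subgroup G) (r : G) : Prop := ∀ a ∈ A, ⁅a, r⁆ ∈ A

/-- `⁅A, ⁅A, r⁆⁆ ≤ A`. -/
def Deg₃ (A : Subgroup G) (r : G) : Prop := ∀ a ∈ A, Deg₂ A ⁅a, r⁆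

theorem bracket_conj (h : Setup₂ S T A H) {a u v : G} (ha : a ∈ A) (hu : u ∈ R T A H) (hv : v ∈ R T A H) :
    a * ⁅u, v⁆ * a⁻¹ =
      ⁅⁅a, u⁆, ⁅a, v⁆⁆ * ⁅⁅a, u⁆, v⁆ * (⁅u, ⁅a, v⁆⁆ * ⁅u, v⁆) := by
  have e : a * ⁅u, v⁆ * a⁻¹ = ⁅⁅a, u⁆ * u, ⁅a, v⁆ * v⁆ := by simp only [commutatorElement_def]; group
  have h1 := R_le (h.bracket_R ha hu)
  have h2 := R_le (h.bracket_R ha hv)
  rw [e, h.left h1 (R_le hu) (h.le_T (mul_mem h2 (R_le hv))), h.right h1 h2 (R_le hv),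
    h.right (R_le hu) h2 (R_le hv)]

theorem sym_eq {a b : G} (hab : Commute a b) (r : G) :
    ⁅a, ⁅b, r⁆⁆ * ⁅b, r⁆ * ⁅a, r⁆ = ⁅b, ⁅a, r⁆⁆ * ⁅a, r⁆ * ⁅b, r⁆ := by
  have e : ∀ x y : G, ⁅x, ⁅y, r⁆⁆ * ⁅y, r⁆ * ⁅x, r⁆ = ⁅x * y, r⁆ := fun x y => by
    simp only [commutatorElement_def]; group
  rw [e, e, hab.eq]

section Fin

variable [Finite G] (hF : ∀ F : Subgroup G, A ⊓ (H ⊓ Subgroup.centralizer (H : Set G)) ≤ F →
  F ≤ H ⊓ Subgroup.centralizer (H : Set G) → Sat A F → F = A ⊓ (H ⊓ Subgroup.centralizer (H : Set G)))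
include hF

theorem fix_Z (h : Setup₂ S T A H) {z a b : G} (hz : z ∈ H ⊓ Subgroup.centralizer (H : Set G)) (ha : a ∈ A)
    (hb : b ∈ A) : Commute b ⁅z, a⁆ :=
  commute_of_abelian h.base.maxA.2.1 hb (h.base.quad_of_rigid hF hz ha).1

/-- In degree three the generators `⁅a, r⁆` commute. -/
theorem bracket_eq_one (h : Setup₂ S T A H) {r : G} (hr : r ∈ R T A H) (h3 : Deg₃ A r) :
    (∀ a ∈ A, ∀ b ∈ A, ⁅⁅a, r⁆, ⁅b, r⁆⁆ = 1) ∧ ∀ b ∈ A, ⁅r, ⁅b, r⁆⁆ ∈ A := by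
  set Z := H ⊓ Subgroup.centralizer (H : Set G) with hZ
  have hq : ∀ b ∈ A, ⁅r, ⁅b, r⁆⁆ ∈ Z := fun b hb => h.bracket_mem (h.le_T hr.1) (R_le (h.bracket_R hb hr))
  have key : ∀ a ∈ A, ∀ b ∈ A, a * ⁅r, ⁅b, r⁆⁆ * a⁻¹ = ⁅⁅a, r⁆, ⁅b, r⁆⁆ * ⁅r, ⁅b, r⁆⁆ := by
    intro a ha b hb
    have hb' := h.bracket_R hb hr
    have hs := h3 b hb a ha
    have hsH : ⁅a, ⁅b, r⁆⁆ ∈ H := R_le (h.bracket_R ha hb')
    rw [h.bracket_conj ha hr hb', comm_eq_one (h.commute_R hs hsH (h.bracket_R ha hr)).symm,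
      comm_eq_one (h.commute_R hs hsH hr).symm, one_mul, one_mul]
  have hadd : ∀ a ∈ A, ∀ c ∈ A, ⁅r, ⁅a * c, r⁆⁆ = ⁅r, ⁅a, r⁆⁆ * ⁅r, ⁅c, r⁆⁆ := by
    intro a ha c hc
    have hc' := h.bracket_R hc hr
    have hs := h3 c hc a ha
    have hsH : ⁅a, ⁅c, r⁆⁆ ∈ H := R_le (h.bracket_R ha hc')
    rw [show ⁅a * c, r⁆ = ⁅a, ⁅c, r⁆⁆ * (⁅c, r⁆ * ⁅a, r⁆) by simp only [commutatorElement_def]; group,
      h.right (R_le hr) hsH (mul_mem (R_le hc') (R_le (h.bracket_R ha hr))),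
      comm_eq_one (h.commute_R hs hsH hr).symm, one_mul, h.right (R_le hr) (R_le hc') (R_le (h.bracket_R ha hr))]
    exact mem_cen.1 (h.base.comm (hq a ha)) _ (hq c hc)
  set W := Subgroup.closure {x | ∃ b ∈ A, ⁅r, ⁅b, r⁆⁆ = x} ⊔ (A ⊓ Z) with hW
  have hWZ : W ≤ Z := sup_le ((Subgroup.closure_le _).2 (by rintro _ ⟨b, hb, rfl⟩; exact hq b hb)) inf_le_right
  have hmem : ∀ b ∈ A, ⁅r, ⁅b, r⁆⁆ ∈ W := fun b hb => Subgroup.mem_sup_left (Subgroup.subset_closure ⟨b, hb, rfl⟩)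
  obtain ⟨hsat, -⟩ := sat_of_map h.base.maxA (hWZ.trans h.base.le_S) (h.base.abel hWZ)
    (fun b => ⁅r, ⁅b, r⁆⁆) hmem fun a ha b hb hab => by
      set c := a⁻¹ * b with hc
      have hcA : c ∈ A := mul_mem (inv_mem ha) hb
      have hu : ⁅r, ⁅c, r⁆⁆ ∈ A := by
        rwa [show b = a * c by rw [hc, mul_inv_cancel_left], hadd a ha c hcA, inv_mul_cancel_left] at hab
      have hle : W ≤ Subgroup.centralizer ((Subgroup.zpowers c : Subgroup G) : Set G) := by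
        refine sup_le ((Subgroup.closure_le _).2 ?_) fun i hi => Subgroup.mem_centralizer_iff.2 fun x hx =>
          commute_of_abelian h.base.maxA.2.1 (Subgroup.zpowers_le.2 hcA hx) hi.1
        rintro _ ⟨d, hd, rfl⟩
        rw [SetLike.mem_coe, Subgroup.mem_centralizer_iff]
        rintro _ ⟨k, rfl⟩
        refine (Commute.zpow_left ?_ k).eq
        have e1 : ⁅⁅d, r⁆, ⁅c, r⁆⁆ = 1 := by
          have := key d hd c hcA
          rw [(commute_of_abelian h.base.maxA.2.1 hd hu).eq, mul_inv_cancel_right] at this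
          exact mul_eq_right.1 this.symm
        have e2 := key c hcA d hd
        rw [← commutatorElement_inv ⁅d, r⁆ ⁅c, r⁆, e1, inv_one, one_mul] at e2
        exact mul_inv_eq_iff_eq_mul.1 e2
      exact mem_cen.2 fun m hm => (mem_cen.1 (hle hm) c (Subgroup.mem_zpowers c)).symm
  have hWI : W = A ⊓ Z := hF W le_sup_right hWZ hsat
  have hqA : ∀ b ∈ A, ⁅r, ⁅b, r⁆⁆ ∈ A := fun b hb => (hWI.le (hmem b hb)).1
  refine ⟨fun a ha b hb => ?_, hqA⟩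
  have := key a ha b hb
  rw [(commute_of_abelian h.base.maxA.2.1 ha (hqA b hb)).eq, mul_inv_cancel_right] at this
  exact mul_eq_right.1 this.symm

/-- In degree three an element commuting with its own commutators has degree two. -/
theorem deg₂_of_commute (h : Setup₂ S T A H) {r : G} (hr : r ∈ R T A H) (h3 : Deg₃ A r)
    (hc : ∀ a ∈ A, ⁅r, ⁅a, r⁆⁆ = 1) : Deg₂ A r := by
  by_contra hn
  obtain ⟨hB, -⟩ := h.bracket_eq_one hF hr h3
  set M := Subgroup.closure {x | ∃ a ∈ A, ⁅a, r⁆ = x} ⊔ (A ⊓ H) with hMdef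
  let D₂ : Subgroup G :=
    { carrier := {u | u ∈ R T A H ∧ Deg₂ A u}
      one_mem' := ⟨one_mem _, fun a _ => by simp⟩
      mul_mem' := fun {u v} hu hv => ⟨mul_mem hu.1 hv.1, fun a ha => by
        rw [show ⁅a, u * v⁆ = ⁅a, u⁆ * (u * ⁅a, v⁆ * u⁻¹) by simp only [commutatorElement_def]; group,
          ← (h.commute_R (hv.2 a ha) (R_le (h.bracket_R ha hv.1)) hu.1).eq, mul_inv_cancel_right]
        exact mul_mem (hu.2 a ha) (hv.2 a ha)⟩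
      inv_mem' := fun {u} hu => ⟨inv_mem hu.1, fun a ha => by
        rw [show ⁅a, u⁻¹⁆ = u⁻¹ * ⁅a, u⁆⁻¹ * u by simp only [commutatorElement_def]; group,
          ← ((h.commute_R (hu.2 a ha) (R_le (h.bracket_R ha hu.1)) hu.1).inv_left.inv_right).eq,
          inv_mul_cancel_right]
        exact inv_mem (hu.2 a ha)⟩ }
  have hMD : M ≤ D₂ := by
    refine sup_le ((Subgroup.closure_le _).2 ?_) fun i hi => ⟨h.inf_le_R hi, fun a ha => ?_⟩
    · rintro _ ⟨a, ha, rfl⟩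
      exact ⟨h.bracket_R ha hr, fun b hb => h3 a ha b hb⟩
    · rw [comm_eq_one (commute_of_abelian h.base.maxA.2.1 ha hi.1)]; exact one_mem _
  have hMR : M ≤ R T A H := fun x hx => (hMD hx).1
  have hmem : ∀ a ∈ A, ⁅a, r⁆ ∈ M := fun a ha => Subgroup.mem_sup_left (Subgroup.subset_closure ⟨a, ha, rfl⟩)
  have hgen : ∀ x : G, (∀ a ∈ A, Commute ⁅a, r⁆ x) → (∀ i ∈ A ⊓ H, Commute i x) → ∀ m ∈ M, Commute m x := by
    intro x h1 h2 m hm
    have hle : M ≤ Subgroup.centralizer ((Subgroup.zpowers x : Subgroup G) : Set G) := by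
      refine sup_le ((Subgroup.closure_le _).2 ?_) fun i hi => Subgroup.mem_centralizer_iff.2 ?_
      · rintro _ ⟨d, hd, rfl⟩
        rw [SetLike.mem_coe, Subgroup.mem_centralizer_iff]
        rintro _ ⟨k, rfl⟩
        exact ((h1 d hd).zpow_right k).eq.symm
      · rintro _ ⟨k, rfl⟩
        exact ((h2 i hi).zpow_right k).eq.symm
    exact (mem_cen.1 (hle hm) x (Subgroup.mem_zpowers x)).symm
  have hMab : M ≤ Subgroup.centralizer (M : Set G) := by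
    intro x hx
    refine mem_cen.2 (hgen x (fun a ha => ?_) fun i hi => h.commute_R hi.1 hi.2 (hMR hx))
    exact (hgen _ (fun b hb => commutatorElement_eq_one_iff_commute.1 (hB b hb a ha))
      (fun i hi => h.commute_R hi.1 hi.2 (h.bracket_R ha hr)) x hx).symm
  have cM : ∀ u ∈ M, ∀ v ∈ M, u * v = v * u := fun u hu v hv => mem_cen.1 (hMab hv) u hu
  have hMH : M ≤ H := hMR.trans R_le
  obtain ⟨hsat, -⟩ := sat_of_map h.base.maxA (hMH.trans (h.le_T.trans h.T_le_S)) hMab (fun a => ⁅a, r⁆) hmem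
    fun a ha b hb hab => by
      set c := a⁻¹ * b with hc
      have hcA : c ∈ A := mul_mem (inv_mem ha) hb
      have hcr : ⁅c, r⁆ ∈ A := by
        have e : ⁅b, r⁆ = ⁅a, ⁅c, r⁆⁆ * ⁅c, r⁆ * ⁅a, r⁆ := by
          rw [hc]; simp only [commutatorElement_def]; group
        rw [e, cM _ (mul_mem (Subgroup.mem_sup_right ⟨h3 c hcA a ha, R_le (h.bracket_R ha (h.bracket_R hcA hr))⟩)
          (hmem c hcA)) _ (hmem a ha), inv_mul_cancel_left] at hab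
        exact (Subgroup.mul_mem_cancel_left _ (h3 c hcA a ha)).1 hab
      refine mem_cen.2 (hgen c (fun d hd => ?_) fun i hi => commute_of_abelian h.base.maxA.2.1 hi.1 hcA)
      refine (commutatorElement_eq_one_iff_commute.1 ?_).symm
      have e := sym_eq (commute_of_abelian h.base.maxA.2.1 hcA hd) r
      rw [comm_eq_one (commute_of_abelian h.base.maxA.2.1 hd hcr), one_mul, mul_assoc,
        cM _ (hmem d hd) _ (hmem c hcA)] at e
      exact mul_eq_right.1 e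
  have hC : A ⊓ Subgroup.centralizer (M : Set G) ≤ T := by
    refine le_sup_right.trans (h.big _ (hsat.sup_mem h.base.maxA (hMH.trans (h.le_T.trans h.T_le_S)) hMab) ?_ ?_)
    · exact Subgroup.card_le_of_le (le_inf (((inf_le_inf_left A inf_le_left).trans le_sup_right).trans le_sup_left)
        inf_le_right)
    · have hlt : A ⊓ H < M := by
        refine lt_of_le_of_ne le_sup_right fun e => hn fun a ha => ?_
        exact (e.ge (hmem a ha)).1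
      refine lt_of_lt_of_le ?_ (Subgroup.card_le_of_le (le_inf le_sup_left hMH))
      exact lt_of_le_of_ne (Subgroup.card_le_of_le hlt.le) fun e' =>
        hlt.ne (Subgroup.eq_of_le_of_card_ge hlt.le e'.ge)
  obtain ⟨w, hw, c, hc', e⟩ := mem_mul_of_commute h.base.maxA (hMH.trans (h.le_T.trans h.T_le_S)) hMab hsat
    (h.T_le_S (h.le_T hr.1))
    (hgen r (fun a ha => (commutatorElement_eq_one_iff_commute.1 (hc a ha)).symm)
      fun i hi => h.commute_R hi.1 hi.2 hr)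
    (fun c hc' => mem_cen.1 hr.2 c ⟨hc'.1, hC hc'⟩)
  have hcH : c ∈ H := by
    have := mul_mem (inv_mem (hMH hw)) hr.1
    rwa [e, inv_mul_cancel_left] at this
  exact hn (e ▸ (hMD (mul_mem hw (Subgroup.mem_sup_right ⟨hc'.1, hcH⟩)))).2

/-- Degree four is degree three. -/
theorem deg₃_of_deg₄ (h : Setup₂ S T A H) (hsq : ∀ x ∈ T, x ^ 2 ∈ A → x ∈ A) {r : G} (hr : r ∈ R T A H)
    (h4 : ∀ a ∈ A, Deg₃ A ⁅a, r⁆) : Deg₃ A r := by
  intro b hb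
  have hm : ∀ a ∈ A, ⁅a, r⁆ ∈ R T A H := fun a ha => h.bracket_R ha hr
  have hmm : ∀ a ∈ A, ∀ c ∈ A, ⁅⁅a, r⁆, ⁅c, r⁆⁆ ∈ H ⊓ Subgroup.centralizer (H : Set G) := fun a ha c hc =>
    h.bracket_mem (h.le_T (R_le (hm a ha))) (R_le (hm c hc))
  -- the two second commutators have the same brackets
  have hsym : ∀ a ∈ A, ∀ c ∈ A, ∀ x ∈ H, ⁅x, ⁅a, ⁅c, r⁆⁆⁆ = ⁅x, ⁅c, ⁅a, r⁆⁆⁆ := by
    intro a ha c hc x hx
    have hsac := R_le (h.bracket_R ha (hm c hc))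
    have hsca := R_le (h.bracket_R hc (hm a ha))
    have e : ⁅a, ⁅c, r⁆⁆ = ⁅c, ⁅a, r⁆⁆ * ⁅⁅a, r⁆, ⁅c, r⁆⁆ := by
      rw [eq_mul_inv_of_mul_eq (eq_mul_inv_of_mul_eq (sym_eq (commute_of_abelian h.base.maxA.2.1 ha hc) r))]
      simp only [commutatorElement_def]; group
    rw [e, h.right hx hsca (hmm a ha c hc).1, comm_eq_one (h.central (hmm a ha c hc) hx), mul_one]
  have hown : ∀ a ∈ A, ∀ c ∈ A, ⁅⁅a, r⁆, ⁅a, ⁅c, r⁆⁆⁆ ∈ A := fun a ha c hc => by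
    rw [hsym a ha c hc _ (R_le (hm a ha))]
    exact (h.bracket_eq_one hF (hm a ha) (h4 a ha)).2 c hc
  have hexp : ∀ a ∈ A, ∀ c ∈ A, a * ⁅r, ⁅c, r⁆⁆ * a⁻¹ =
      ⁅⁅a, r⁆, ⁅a, ⁅c, r⁆⁆⁆ * ⁅⁅a, r⁆, ⁅c, r⁆⁆ * (⁅r, ⁅a, ⁅c, r⁆⁆⁆ * ⁅r, ⁅c, r⁆⁆) :=
    fun a ha c hc => h.bracket_conj ha hr (hm c hc)
  have hrs : ∀ a ∈ A, ∀ c ∈ A, ⁅⁅a, r⁆, ⁅c, r⁆⁆ * ⁅r, ⁅a, ⁅c, r⁆⁆⁆ ∈ A := by
    intro a ha c hc
    have hq := h.bracket_mem (h.le_T hr.1) (R_le (hm c hc))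
    have hqA : a * ⁅r, ⁅c, r⁆⁆ * a⁻¹ * ⁅r, ⁅c, r⁆⁆⁻¹ ∈ A := by
      have hi := A.inv_mem (h.base.quad_of_rigid hF hq ha).1
      rwa [commutatorElement_inv, commutatorElement_def] at hi
    rw [hexp a ha c hc] at hqA
    refine (Subgroup.mul_mem_cancel_left _ (hown a ha c hc)).1 ?_
    rwa [show ∀ x y z q : G, x * y * (z * q) * q⁻¹ = x * (y * z) from fun x y z q => by group] at hqA
  refine h.deg₂_of_commute hF (hm b hb) (h4 b hb) fun a ha => ?_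
  have h2 : ⁅r, ⁅a, ⁅b, r⁆⁆⁆ ∈ A := by
    refine hsq _ (h.le_T ((h.bracket_mem (h.le_T hr.1) (R_le (h.bracket_R ha (hm b hb)))).1)) ?_
    have hmul := A.mul_mem (hrs a ha b hb) (hrs b hb a ha)
    rw [← hsym a ha b hb r hr.1, ← commutatorElement_inv ⁅a, r⁆ ⁅b, r⁆] at hmul
    have c1 := h.base.comm (h.bracket_mem (h.le_T hr.1) (R_le (h.bracket_R ha (hm b hb))))
    have c2 := mem_cen.1 c1 _ (inv_mem (hmm a ha b hb))
    rw [c2.eq, ← mul_assoc, mul_assoc ⁅⁅a, r⁆, ⁅b, r⁆⁆] at hmul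
    have c3 := mem_cen.1 c1 _ (hmm a ha b hb)
    rw [← pow_two, (c3.pow_right 2).eq, mul_inv_cancel_right] at hmul
    exact hmul
  have h3 : ∀ c ∈ A, ⁅⁅c, r⁆, ⁅a, ⁅b, r⁆⁆⁆ = 1 := by
    intro c hc
    have hs := h.bracket_R ha (hm b hb)
    have ht := h4 b hb a ha c hc
    have htH := R_le (h.bracket_R hc hs)
    have e := h.bracket_conj hc hr hs
    rw [comm_eq_one (h.commute_R ht htH (hm c hc)).symm, comm_eq_one (h.commute_R ht htH hr).symm, one_mul,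
      one_mul, (commute_of_abelian h.base.maxA.2.1 hc h2).eq, mul_inv_cancel_right] at e
    exact mul_eq_right.1 e.symm
  exact h3 b hb

end Fin

end Setup₂

end Cfsg.Agent.ThompsonTransfer
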