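/-
If the abelian version of the Thompson subgroup of a Sylow `p`-subgroup is not normal, some element of the Sylow
subgroup outside `O_p` has degree at most six on every chief factor below `O_p` (`p` odd).

Main results (namespace `Cfsg.Agent.ThompsonTransfer`): `iterCommutator_le`, `exists_engel_element`,
`isCharPFunctor_thompsonA`.
-/
import Cfsg.Agent.Lib.ThompsonTransfer.ClassTwo
import Cfsg.Agent.Lib.KInfinity.Basic
import Cfsg.Agent.Lib.KInfinity.Lift
import Cfsg.Agent.Lib.PGroup.Critical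

set_option autoImplicit false
open Cfsg
open scoped commutatorElement Pointwise

namespace Cfsg.Agent.ThompsonTransfer

universe u

variable {G : Type u} [Group G]

/-- Iterated commutators with a cyclic group, from the element. -/
theorem iterCommutator_le [Finite G] {U V : Subgroup G} [hU : U.Normal] [hV : V.Normal] (hVU : V ≤ U)
    (hab : ⁅U, U⁆ ≤ V) (g : G) (n : ℕ) (h : ∀ u ∈ U, (fun x => ⁅x, g⁆)^[n] u ∈ V) :
    iterCommutator U (Subgroup.zpowers g) n ≤ V := by
  let L : ℕ → Set G := fun k => {u | u ∈ U ∧ (fun x => ⁅x, g⁆)^[k] u ∈ V}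
  have hmemU : ∀ u ∈ U, ∀ x : G, ⁅u, x⁆ ∈ U := fun u hu x =>
    Subgroup.commutator_le_left U ⊤ (Subgroup.commutator_mem_commutator hu (Subgroup.mem_top x))
  have hcg : ∀ k, ∀ u : G, (fun x => ⁅x, g⁆)^[k + 1] u = (fun x => ⁅x, g⁆)^[k] ⁅u, g⁆ :=
    fun k u => Function.iterate_succ_apply _ k u
  -- `u ↦ (·, g)^k u` is a homomorphism `U → U/V`
  have hhom : ∀ k, ∀ u ∈ U, ∀ v ∈ U, (QuotientGroup.mk' V) ((fun x => ⁅x, g⁆)^[k] (u * v)) =
      QuotientGroup.mk' V ((fun x => ⁅x, g⁆)^[k] u) * QuotientGroup.mk' V ((fun x => ⁅x, g⁆)^[k] v) := by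
    intro k
    induction k with
    | zero => intro u _ v _; exact map_mul _ u v
    | succ k ih =>
      intro u hu v hv
      have hc : ∀ x ∈ U, ∀ y ∈ U, Commute (QuotientGroup.mk' V x) (QuotientGroup.mk' V y) := fun x hx y hy => by
        rw [← commutatorElement_eq_one_iff_commute, ← map_commutatorElement]
        exact (QuotientGroup.eq_one_iff _).2 (hab (Subgroup.commutator_mem_commutator hx hy))
      have hk : ∀ x ∈ V, QuotientGroup.mk' V ((fun y => ⁅y, g⁆)^[k] x) = 1 := by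
        intro x hx
        refine (QuotientGroup.eq_one_iff _).2 ?_
        clear ih hcg
        induction k generalizing x with
        | zero => exact hx
        | succ k ihk =>
          rw [Function.iterate_succ_apply]
          exact ihk _ (Subgroup.commutator_le_left V ⊤
            (Subgroup.commutator_mem_commutator hx (Subgroup.mem_top g)))
      have e : ∃ w ∈ V, ⁅u * v, g⁆ = ⁅u, g⁆ * ⁅v, g⁆ * w := by
        refine ⟨(⁅u, g⁆ * ⁅v, g⁆)⁻¹ * ⁅u * v, g⁆, ?_, (mul_inv_cancel_left _ _).symm⟩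
        rw [← QuotientGroup.eq, comm_mul_left]
        show QuotientGroup.mk' V _ = QuotientGroup.mk' V _
        rw [map_mul, map_mul, map_mul, map_mul, (hc u hu _ (hmemU v hv g)).eq, map_inv, mul_inv_cancel_right]
        exact (hc _ (hmemU u hu g) _ (hmemU v hv g)).eq
      obtain ⟨w, hw, e⟩ := e
      rw [hcg, hcg, hcg, e, ih _ (mul_mem (hmemU u hu g) (hmemU v hv g)) _ (hVU hw),
        ih _ (hmemU u hu g) _ (hmemU v hv g), hk w hw, mul_one]
  have hq1 : ∀ x ∈ V, QuotientGroup.mk' V x = 1 := fun x hx => (QuotientGroup.eq_one_iff x).2 hx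
  let K : ℕ → Subgroup G := fun k =>
    { carrier := L k
      one_mem' := ⟨one_mem _, by
        induction k with
        | zero => exact one_mem _
        | succ k ih => rwa [Function.iterate_succ_apply, commutatorElement_one_left]⟩
      mul_mem' := fun {u v} hu hv => ⟨mul_mem hu.1 hv.1, by
        rw [← QuotientGroup.eq_one_iff, ← QuotientGroup.mk'_apply, hhom k u hu.1 v hv.1,
          hq1 _ hu.2, hq1 _ hv.2, one_mul]⟩
      inv_mem' := fun {u} hu => ⟨inv_mem hu.1, by
        have h1 := hhom k u⁻¹ (inv_mem hu.1) u hu.1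
        rw [inv_mul_cancel, hq1 _ hu.2, mul_one] at h1
        rw [← QuotientGroup.eq_one_iff, ← QuotientGroup.mk'_apply, ← h1]
        refine (QuotientGroup.eq_one_iff _).2 ?_
        clear h1 hu hhom
        induction k with
        | zero => exact one_mem _
        | succ k ih => rwa [Function.iterate_succ_apply, commutatorElement_one_left]⟩ }
  have hmono : ∀ k, K k ≤ K (k + 1) := fun k u hu => ⟨hu.1, by
    show (fun x => ⁅x, g⁆)^[k + 1] u ∈ V
    rw [Function.iterate_succ_apply']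
    exact Subgroup.commutator_le_left V ⊤ (Subgroup.commutator_mem_commutator hu.2 (Subgroup.mem_top g))⟩
  have hconj : ∀ k, ∀ w ∈ K k, g * w * g⁻¹ ∈ K k := by
    intro k w hw
    rw [show g * w * g⁻¹ = ⁅w, g⁆⁻¹ * w by simp only [commutatorElement_def]; group]
    refine mul_mem (inv_mem ?_) hw
    have h1 := hmono k hw
    exact ⟨hmemU w hw.1 g, by have := h1.2; rwa [hcg] at this⟩
  have hstep : ∀ k, ⁅K (k + 1), Subgroup.zpowers g⁆ ≤ K k := by
    intro k
    refine Subgroup.commutator_le.2 fun u hu x hx => ?_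
    rw [← mem_powers_iff_mem_zpowers] at hx
    obtain ⟨m, rfl⟩ := hx
    show ⁅u, g ^ m⁆ ∈ K k
    induction m with
    | zero => rw [pow_zero, commutatorElement_one_right]; exact one_mem _
    | succ m ih =>
      rw [pow_succ', show ⁅u, g * g ^ m⁆ = ⁅u, g⁆ * (g * ⁅u, g ^ m⁆ * g⁻¹) by
        simp only [commutatorElement_def]; group]
      exact mul_mem ⟨hmemU u hu.1 g, by have := hu.2; rwa [hcg] at this⟩ (hconj k _ ih)
  suffices ∀ m ≤ n, iterCommutator U (Subgroup.zpowers g) m ≤ K (n - m) by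
    intro x hx
    have := this n le_rfl hx
    rw [Nat.sub_self] at this
    exact this.2
  intro m hm
  induction m with
  | zero => exact fun u hu => ⟨hu, h u hu⟩
  | succ m ih =>
    refine (Subgroup.commutator_mono (ih (by omega)) le_rfl).trans ?_
    rw [show n - m = n - (m + 1) + 1 by omega]
    exact hstep _

theorem iterCommutator_le_lcs {S X A : Subgroup G} (hX : X ≤ S) (hA : A ≤ S) :
    ∀ n, iterCommutator X A n ≤ S.lowerCentralSeries n := by
  intro n
  induction n with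
  | zero => exact hX
  | succ n ih => exact Subgroup.commutator_mono ih hA

theorem exists_iterCommutator_eq_bot [Finite G] {p : ℕ} [Fact p.Prime] {S X A : Subgroup G} (hS : IsPGroup p S)
    (hX : X ≤ S) (hA : A ≤ S) : ∃ n, iterCommutator X A n = ⊥ := by
  haveI : Group.IsNilpotent S := hS.isNilpotent
  obtain ⟨k, hk⟩ := Subgroup.nilpotent_iff_lowerCentralSeries.1 (inferInstance : Group.IsNilpotent S)
  have : ∀ n, S.lowerCentralSeries n = ((⊤ : Subgroup S).lowerCentralSeries n).map S.subtype := by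
    intro n
    induction n with
    | zero =>
      rw [Subgroup.lowerCentralSeries_zero, Subgroup.lowerCentralSeries_zero, ← MonoidHom.range_eq_map,
        Subgroup.range_subtype]
    | succ n ih =>
      rw [Subgroup.lowerCentralSeries_succ, Subgroup.lowerCentralSeries_succ, Subgroup.map_commutator,
        ← ih, ← MonoidHom.range_eq_map, Subgroup.range_subtype]
  exact ⟨k, le_bot_iff.1 ((iterCommutator_le_lcs hX hA k).trans (by rw [this, hk, Subgroup.map_bot]))⟩

theorem mem_of_sq_mem {p : ℕ} [Fact p.Prime] (hp : p ≠ 2) {P A : Subgroup G} (hP : IsPGroup p P) {x : G}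
    (hx : x ∈ P) (h : x ^ 2 ∈ A) : x ∈ A := by
  obtain ⟨k, hk⟩ := hP ⟨x, hx⟩
  have hk' : x ^ p ^ k = 1 := by simpa using congrArg Subtype.val hk
  obtain ⟨m, hm⟩ := ((Fact.out : p.Prime).odd_of_ne_two hp).pow (n := k)
  have : x = (x ^ 2) ^ (m + 1) := by
    rw [← pow_mul, show 2 * (m + 1) = p ^ k + 1 by omega, pow_succ, hk', one_mul]
  rw [this]
  exact pow_mem h _

section Main

variable [Finite G] {p : ℕ} [Fact p.Prime]

/-- The degree bounds on the chief factors below `H` and below `Z(H)`. -/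
theorem degree_bounds (hp : p ≠ 2) {S A H : Subgroup G} (hS : IsPGroup p S)
    (h : Setup₂ S (pCore p G) A H) [H.Normal] {g : G} (hg : g ∈ A) :
    ∃ i j : ℕ, 1 ≤ i ∧ 1 ≤ j ∧ i + j ≤ 7 ∧
      (∀ U V : Subgroup G, IsChiefFactor U V → U ≤ H → iterCommutator U (Subgroup.zpowers g) i ≤ V) ∧
      (∀ U V : Subgroup G, IsChiefFactor U V → U ≤ H ⊓ Subgroup.centralizer (H : Set G) →
        iterCommutator U (Subgroup.zpowers g) j ≤ V) := by
  classical
  set T := pCore p G with hT
  set Z := H ⊓ Subgroup.centralizer (H : Set G) with hZ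
  haveI : Z.Normal := by rw [hZ]; infer_instance
  have hTp : IsPGroup p T := Cores.isPGroup_pCore p G
  have hAS : A ≤ S := h.base.maxA.1
  have hHS : H ≤ S := h.le_T.trans h.T_le_S
  have hnil : ∀ X : Subgroup G, X ≤ S → X ≤ ⁅X, A⁆ → X = ⊥ := by
    intro X hX hXX
    obtain ⟨n, hn⟩ := exists_iterCommutator_eq_bot hS hX hAS
    refine le_bot_iff.1 (le_trans ?_ hn.le)
    clear hn
    induction n with
    | zero => exact le_rfl
    | succ n ih => exact hXX.trans (Subgroup.commutator_mono ih le_rfl)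
  obtain ⟨a, ha, haT, hsq⟩ := h.base.exists_square_element hnil hg
  have hAc : ∀ {x y : G}, x ∈ A → y ∈ A → Commute x y :=
    fun hx hy => commute_of_abelian h.base.maxA.2.1 hx hy
  have habel : ∀ {U V : Subgroup G}, IsChiefFactor U V → U ≤ H → ⁅U, U⁆ ≤ V := fun hUV hU => by
    haveI := hUV.2.1
    exact KInfinity.commutator_le_of_chief hUV (hTp.to_le (hU.trans h.le_T)) (hTp.to_le (hU.trans h.le_T))
  have hmem : ∀ {U : Subgroup G}, U.Normal → ∀ {u : G}, u ∈ U → ∀ x : G, ⁅u, x⁆ ∈ U := by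
    intro U hU u hu x
    haveI := hU
    exact Subgroup.commutator_le_left _ ⊤ (Subgroup.commutator_mem_commutator hu (Subgroup.mem_top x))
  have hHmem : ∀ {u : G}, u ∈ H → ∀ x : G, ⁅u, x⁆ ∈ H := fun hu x => hmem inferInstance hu x
  -- reduce a factor below `H` to one meeting `Z` in `V`
  have red : ∀ n m : ℕ, m ≤ n →
      (∀ U V : Subgroup G, IsChiefFactor U V → U ≤ Z → iterCommutator U (Subgroup.zpowers g) m ≤ V) →
      (∀ u ∈ H, (fun x => ⁅x, g⁆)^[n] u ∈ Z) →
      ∀ U V : Subgroup G, IsChiefFactor U V → U ≤ H → iterCommutator U (Subgroup.zpowers g) n ≤ V := by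
    intro n m hmn hm hn U V hUV hU
    obtain ⟨hlt, hUn, hVn, hmax⟩ := hUV
    haveI := hUn
    haveI := hVn
    by_cases hUZ : U ⊓ Z ≤ V
    · refine iterCommutator_le hlt.le (habel ⟨hlt, hUn, hVn, hmax⟩ hU) g n fun u hu => hUZ ⟨?_, hn u (hU hu)⟩
      clear hn
      induction n generalizing u with
      | zero => exact hu
      | succ k ih =>
        rw [Function.iterate_succ_apply']
        exact hmem hUn (by
          clear ih hmn
          induction k with
          | zero => exact hu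
          | succ k ih => rw [Function.iterate_succ_apply']; exact hmem hUn ih g) g
    · have hsup : U ≤ (U ⊓ Z) ⊔ V := by
        rcases hmax ((U ⊓ Z) ⊔ V) inferInstance le_sup_right (sup_le inf_le_left hlt.le) with e | e
        · exact absurd (e ▸ le_sup_left) hUZ
        · exact e.ge
      have h1 := hm _ _ (KInfinity.chief_inf ⟨hlt, hUn, hVn, hmax⟩ hsup) inf_le_right
      exact KInfinity.iterCommutator_sup_le hsup
        ((KInfinity.iterCommutator_le_of_le hmn h1).trans inf_le_left)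
  by_cases hF : ∀ F : Subgroup G, A ⊓ Z ≤ F → F ≤ Z → Sat A F → F = A ⊓ Z
  · -- rigid case
    have hquad : ∀ z ∈ Z, ⁅⁅z, g⁆, g⁆ = 1 := fun z hz =>
      h.base.fix (h.base.quad_of_rigid hF hz hg).1 hg
    have hZ2 : ∀ U V : Subgroup G, IsChiefFactor U V → U ≤ Z → iterCommutator U (Subgroup.zpowers g) 2 ≤ V := by
      intro U V hUV hU
      haveI := hUV.2.1
      haveI := hUV.2.2.1
      refine iterCommutator_le hUV.1.le (habel hUV (hU.trans inf_le_left)) g 2 fun u hu => ?_
      show ⁅⁅u, g⁆, g⁆ ∈ V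
      rw [hquad u (hU hu)]; exact one_mem _
    have hR3 : ∀ r ∈ Setup₂.R T A H, Setup₂.Deg₃ A r := by
      obtain ⟨n, hn⟩ := exists_iterCommutator_eq_bot hS ((inf_le_left).trans hHS : Setup₂.R T A H ≤ S) hAS
      suffices ∀ k, ∀ r, r ∈ iterCommutator (Setup₂.R T A H) A (n - k) → r ∈ Setup₂.R T A H → Setup₂.Deg₃ A r by
        intro r hr
        exact this n r (by rw [Nat.sub_self]; exact hr) hr
      intro k
      induction k with
      | zero =>
        intro r hr _ x _ y _
        rw [Nat.sub_zero] at hr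
        rw [Subgroup.mem_bot.1 (hn.le hr)]; simp
      | succ k ih =>
        intro r hr hrR
        by_cases hk : n - (k + 1) + 1 = n - k
        · refine h.deg₃_of_deg₄ hF (fun x hx => mem_of_sq_mem hp hTp hx) hrR fun x hx =>
            ih _ ?_ (h.bracket_R hx hrR)
          rw [← hk, ← commutatorElement_inv]
          exact inv_mem (Subgroup.commutator_mem_commutator hr hx)
        · exact ih r (by rwa [show n - k = n - (k + 1) by omega]) hrR
    refine ⟨5, 2, by norm_num, by norm_num, by norm_num, red 5 2 (by norm_num) hZ2 fun v hv => ?_, hZ2⟩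
    show ⁅⁅⁅⁅⁅v, g⁆, g⁆, g⁆, g⁆, g⁆ ∈ Z
    set w := ⁅⁅v, g⁆, g⁆ with hw
    have hwR : w ∈ Setup₂.R T A H := by
      refine ⟨hHmem (hHmem hv g) g, mem_cen.2 fun c hc => (commutatorElement_eq_one_iff_commute.1 ?_).symm⟩
      rw [hw, h.swap (hHmem hv g) (hAc hg hc.1) hc.2, h.swap hv (hAc hg hc.1) hc.2]
      exact hquad _ (h.bracket_mem' hv hc.2)
    have hw2 : ⁅⁅w, g⁆, g⁆ ∈ A := by
      have h1 : ⁅g, w⁆ ∈ Setup₂.R T A H := h.bracket_R hg hwR
      have h2 : ⁅g, ⁅g, w⁆⁆ ∈ A := hR3 w hwR g hg g hg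
      have h2H : ⁅g, ⁅g, w⁆⁆ ∈ H := Setup₂.R_le (h.bracket_R hg h1)
      have e : ⁅⁅w, g⁆, g⁆ = ⁅g, w⁆⁻¹ * ⁅g, ⁅g, w⁆⁆ * ⁅g, w⁆ := by
        simp only [commutatorElement_def]; group
      rwa [e, mul_assoc, (h.commute_R h2 h2H h1).eq, inv_mul_cancel_left]
    rw [comm_eq_one (hAc hw2 hg)]
    exact one_mem _
  · -- a saturated subgroup above `A ∩ Z`
    push Not at hF
    obtain ⟨F, hIF, hFZ, hFs, hFne⟩ := hF
    have hC := h.base.centralizer_le_core hIF hFZ hFne hFs
    have hsq3 : ∀ z ∈ Z, ⁅⁅⁅z, g⁆, g⁆, g⁆ = ⁅⁅z, g⁆, a⁆ := fun z hz => hsq z hz g hg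
    have hZ3 : ∀ U V : Subgroup G, IsChiefFactor U V → U ≤ Z → iterCommutator U (Subgroup.zpowers g) 3 ≤ V := by
      intro U V hUV hU
      haveI := hUV.2.1
      haveI := hUV.2.2.1
      refine iterCommutator_le hUV.1.le (habel hUV (hU.trans inf_le_left)) g 3 fun u hu => ?_
      show ⁅⁅⁅u, g⁆, g⁆, g⁆ ∈ V
      rw [hsq3 u (hU hu)]
      exact KInfinity.commutator_le_of_chief hUV (hTp.to_le (hU.trans (inf_le_left.trans h.le_T))) hTp
        (Subgroup.commutator_mem_commutator (hmem hUV.2.1 hu g) haT)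
    refine ⟨4, 3, by norm_num, by norm_num, by norm_num, red 4 3 (by norm_num) hZ3 fun v hv => ?_, hZ3⟩
    show ⁅⁅⁅⁅v, g⁆, g⁆, g⁆, g⁆ ∈ Z
    set w := ⁅⁅⁅v, g⁆, g⁆, g⁆ with hw
    set u := ⁅⁅v, a⁆, g⁆ with hu
    have hvaZ : ⁅v, a⁆ ∈ Z := h.bracket_mem' hv haT
    have huZ : u ∈ Z := h.base.comm_mem hvaZ g
    have hwH : w ∈ H := hHmem (hHmem (hHmem hv g) g) g
    set y := w * u⁻¹ with hy
    have hyH : y ∈ H := mul_mem hwH (inv_mem huZ.1)
    obtain ⟨f, hf, c, hc, e⟩ : ∃ f ∈ F, ∃ c ∈ A ⊓ Subgroup.centralizer (F : Set G), y = f * c := by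
      refine mem_mul_of_commute h.base.maxA (hFZ.trans h.base.le_S) (h.base.abel hFZ) hFs (hHS hyH)
        (fun z hz => (h.central (hFZ hz) hyH).symm) fun c hc =>
        (commutatorElement_eq_one_iff_commute.1 ?_).symm
      have hcT := hC hc
      have hgc := hAc hg hc.1
      have hz := h.bracket_mem' hv hcT
      rw [hy, h.left hwH (inv_mem huZ.1) hcT, h.left_inv huZ.1 hcT, mul_inv_eq_one, hw, hu,
        h.swap (hHmem (hHmem hv g) g) hgc hcT, h.swap (hHmem hv g) hgc hcT, h.swap hv hgc hcT,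
        h.swap (hHmem hv a) hgc hcT, h.swap hv (hAc ha hc.1) hcT, hsq3 _ hz]
      exact h.base.comm₂ hz (hAc hg ha)
    have hwy : w = u * y := by
      rw [hy, ← mul_assoc, (h.central huZ hwH).symm.eq, mul_inv_cancel_right]
    have hyg : ⁅y, g⁆ ∈ Z := by
      rw [e, comm_mul_left, comm_eq_one (hAc hc.1 hg), mul_one, mul_inv_cancel, one_mul]
      exact h.base.comm_mem (hFZ hf) g
    rw [hwy, comm_mul_left]
    exact mul_mem (h.base.conj _ hyg u) (h.base.comm_mem huZ g)

/-- The Engel element of degree six. -/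
theorem exists_engel_element (hp : p ≠ 2) (S : Sylow p G)
    (hJ : ¬ (thompsonSubgroupAOf (S : Subgroup G)).Normal) :
    ∃ g : G, g ∈ (S : Subgroup G) ∧ g ∉ pCore p G ∧
      ∀ U V : Subgroup G, IsChiefFactor U V → U ≤ pCore p G → iterCommutator U (Subgroup.zpowers g) 6 ≤ V := by
  classical
  set T := pCore p G with hTdef
  have hTp : IsPGroup p T := Cores.isPGroup_pCore p G
  have hTS : T ≤ (S : Subgroup G) := Cores.pCore_le_sylow S
  obtain ⟨A₀, hA₀, hA₀T⟩ : ∃ A ∈ PLocal.maxIn PLocal.abelian (S : Subgroup G), ¬ A ≤ T := by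
    by_contra hno
    push Not at hno
    obtain ⟨B, hB⟩ := PLocal.exists_maxIn (Q := PLocal.abelian) PLocal.abelian_bot (S : Subgroup G)
    have e : PLocal.maxIn PLocal.abelian (S : Subgroup G) = PLocal.maxIn PLocal.abelian T :=
      Set.Subset.antisymm (fun A hA => PLocal.maxIn_of_mem_le hA (hno A hA) hTS)
        (PLocal.maxIn_subset hB (hno B hB) hTS)
    refine hJ (Subgroup.normalizer_eq_top_iff.1 (eq_top_iff.2 ?_))
    rw [PLocal.thompsonSubgroupAOf_eq, e, ← PLocal.thompsonSubgroupAOf_eq]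
    exact (Subgroup.normalizer_eq_top_iff.2 (Cores.pCore_normal p G)).ge.trans
      (PLocal.normalizer_le_normalizer_thompsonSubgroupAOf T)
  obtain ⟨H₀, hH₀⟩ := PGroup.exists_critical hTp
  haveI := hH₀.char
  set H := H₀.map T.subtype with hHdef
  haveI hHn : H.Normal := Cores.map_subtype_normal_of_characteristic T H₀
  have hHT : H ≤ T := Subgroup.map_subtype_le H₀
  set Z := H ⊓ Subgroup.centralizer (H : Set G) with hZdef
  haveI hZn : Z.Normal := by rw [hZdef]; infer_instance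
  have hZmap : (H₀ ⊓ Subgroup.centralizer (H₀ : Set T)).map T.subtype = Z := KInfinity.map_inf_centralizer H₀
  have hTH : ⁅T, H⁆ ≤ Z := by
    rw [Subgroup.commutator_comm]
    refine Subgroup.commutator_le.2 ?_
    rintro _ ⟨x, hx, rfl⟩ t ht
    exact hZmap.le ⟨⁅x, ⟨t, ht⟩⁆, hH₀.comm_mem x hx ⟨t, ht⟩, rfl⟩
  have hTC : T ⊓ Subgroup.centralizer (H : Set G) ≤ Z := by
    rintro t ⟨ht, htc⟩
    refine ⟨⟨⟨t, ht⟩, hH₀.self_centralizing (Subgroup.mem_centralizer_iff.2 fun x hx => ?_), rfl⟩, htc⟩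
    exact Subtype.ext (Subgroup.mem_centralizer_iff.1 htc _ ⟨x, hx, rfl⟩)
  set 𝒜 := {A | A ∈ PLocal.maxIn PLocal.abelian (S : Subgroup G) ∧ ¬ A ≤ T}
  obtain ⟨A₁, hA₁, hA₁max⟩ := Set.exists_max_image 𝒜 (fun A => Nat.card ↥(A ⊓ Z)) (Set.toFinite _)
    ⟨A₀, hA₀, hA₀T⟩
  obtain ⟨A, ⟨⟨hA, hAT⟩, hAZ⟩, hAmax⟩ := Set.exists_max_image
    {A | A ∈ 𝒜 ∧ Nat.card ↥(A₁ ⊓ Z) ≤ Nat.card ↥(A ⊓ Z)} (fun A => Nat.card ↥(A ⊓ H)) (Set.toFinite _)
    ⟨A₁, hA₁, le_rfl⟩
  have hbase : Setup (S : Subgroup G) T A Z :=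
    { maxA := hA
      le_S := inf_le_left.trans (hHT.trans hTS)
      comm := inf_le_right.trans (Subgroup.centralizer_le inf_le_left)
      conj := fun z hz x => hZn.conj_mem z hz x
      big := fun B hB hlt => by
        by_contra hBT
        exact absurd ((hA₁max B ⟨hB, hBT⟩).trans hAZ) hlt.not_ge }
  have h : Setup₂ (S : Subgroup G) T A H :=
    { base := hbase
      normal := fun y hy x => hHn.conj_mem y hy x
      le_T := hHT
      T_le_S := hTS
      comm_T := hTH
      big := fun B hB hle hlt => by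
        by_contra hBT
        exact absurd (hAmax B ⟨⟨hB, hBT⟩, hAZ.trans hle⟩) hlt.not_ge }
  obtain ⟨g, hgA, hgT⟩ := SetLike.not_le_iff_exists.1 hAT
  obtain ⟨i, j, hi, hj, hij, hHi, hZj⟩ := degree_bounds hp S.isPGroup' h hgA
  refine ⟨g, hA.1 hgA, hgT, fun U V hUV hU => ?_⟩
  haveI := hUV.2.2.1
  exact KInfinity.iterCommutator_le_of_le (show i + j - 1 ≤ 6 by omega)
    (KInfinity.iterCommutator_chief_le hTp hHT hTH hTC g hi hj hHi hZj U V hUV hU)

end Main

theorem isCharPFunctor_thompsonA (p : ℕ) [Fact p.Prime] :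
    IsCharPFunctor.{u} p fun (Q : Type u) [Group Q] => thompsonSubgroupA Q := by
  refine ⟨fun Q _ _ hQ hnt hbot => ?_, fun Q R _ _ _ _ φ => ?_⟩
  · obtain ⟨z, hz⟩ := exists_ne (1 : Q)
    have hab : PLocal.abelian (Subgroup.zpowers z) := by rw [PLocal.abelian_iff]; infer_instance
    obtain ⟨B, hB⟩ := PLocal.exists_maxIn (Q := PLocal.abelian) PLocal.abelian_bot (⊤ : Subgroup Q)
    have h0 : B ≤ thompsonSubgroupA Q := by rw [PLocal.thompsonSubgroupA_eq]; exact le_sSup hB
    have hbot' : thompsonSubgroupA Q = ⊥ := hbot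
    have h1 : B = ⊥ := le_bot_iff.1 (h0.trans hbot'.le)
    have h2 := hB.2.2 _ le_top hab
    rw [h1, Subgroup.card_bot] at h2
    exact hz (Subgroup.zpowers_eq_bot.1 (Subgroup.card_eq_one.1 (le_antisymm h2 Nat.card_pos)))
  · have h := PLocal.map_thompsonSubgroupAOf φ.toMonoidHom (H := (⊤ : Subgroup Q)) φ.injective.injOn
    rw [Subgroup.map_top_of_surjective _ φ.surjective, PLocal.thompsonSubgroupAOf_eq,
      PLocal.thompsonSubgroupAOf_eq, ← PLocal.thompsonSubgroupA_eq, ← PLocal.thompsonSubgroupA_eq] at h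
    exact h

end Cfsg.Agent.ThompsonTransfer
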